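import Groth.Agent.VarDim.Scheme
import Groth.Prelude.Def_Pi1
import Mathlib.AlgebraicGeometry.Noetherian
import Mathlib.RingTheory.DiscreteValuationRing.TFAE

/-!
# Normal schemes in codimension one, curves over a field

* `isDiscreteValuationRing_stalk_of_coheight_eq_one`: normal + locally Noetherian, codimension one => DVR
* curves (`IrreducibleSpace X`, lft over `k`, `topologicalKrullDim X = 1`): points other than the generic
  point are closed with one-dimensional local ring; proper closed subsets of a quasi-compact curve are finite.
-/

universe u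

open CategoryTheory AlgebraicGeometry

set_option linter.style.haveILetI false

namespace Groth.Agent.VarDim

/-- A one-dimensional Noetherian integrally closed local domain is a DVR. -/
lemma isDiscreteValuationRing_of_ringKrullDim_eq_one (R : Type*) [CommRing R] [IsDomain R]
    [IsLocalRing R] [IsNoetherianRing R] [IsIntegrallyClosed R] (h : ringKrullDim R = 1) :
    IsDiscreteValuationRing R := by
  have hnf : ¬ IsField R := fun hf => by
    rw [ringKrullDim_eq_zero_of_isField hf] at h
    exact zero_ne_one h
  haveI : Ring.DimensionLEOne R := ⟨fun {p} hp0 hp => by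
    refine Ideal.isMaximal_of_height_eq_ringKrullDim (le_antisymm ?_ ?_)
    · exact Ideal.height_le_ringKrullDim_of_isPrime
    · rw [h]
      exact_mod_cast Order.one_le_iff_pos.mpr
        (pos_iff_ne_zero.mpr (fun h0 => hp0 (Ideal.height_eq_zero_iff_eq_bot.mp h0)))⟩
  haveI : IsDedekindRing R := { }
  haveI : IsDedekindDomain R := { }
  exact ((IsDiscreteValuationRing.TFAE R hnf).out 2 0).mp ‹_›

/-- Normal and locally Noetherian: local rings of points of codimension one are DVRs. -/
lemma isDiscreteValuationRing_stalk_of_coheight_eq_one {X : Scheme.{u}} [IsLocallyNoetherian X]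
    (hX : Pi1.IsNormalScheme X) (x : X) (hx : Order.coheight x = 1) :
    ∃ _ : IsDomain (X.presheaf.stalk x), IsDiscreteValuationRing (X.presheaf.stalk x) := by
  obtain ⟨h1, h2⟩ := hX x
  refine ⟨h1, isDiscreteValuationRing_of_ringKrullDim_eq_one _ ?_⟩
  rw [ringKrullDim_stalk_eq_coheight, hx]
  rfl

section Curves

variable (k : Type u) [Field k] {X : Scheme.{u}} [X.Over (Spec (CommRingCat.of k))]
  [LocallyOfFiniteType (X ↘ Spec (CommRingCat.of k))] [IrreducibleSpace X]

lemma dimPt_genericPoint_of_curve (hdim : topologicalKrullDim X = 1) :
    dimPt k X (genericPoint X) = 1 := by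
  have h := (topologicalKrullDim_eq_of_irreducible k (X := X)).symm.trans hdim
  exact_mod_cast h

include k in
lemma isMin_of_ne_genericPoint (hdim : topologicalKrullDim X = 1) {x : X} (hx : x ≠ genericPoint X) :
    IsMin x := by
  have hlt : x < genericPoint X := by
    refine lt_iff_le_not_ge.mpr ⟨genericPoint_specializes x, fun h => hx ?_⟩
    exact (Specializes.antisymm h (genericPoint_specializes x)).eq
  have := dimPt_lt_of_lt k hlt
  rw [dimPt_genericPoint_of_curve k hdim] at this
  have h0 : Order.height x = 0 := by
    rw [height_eq_dimPt k x]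
    exact_mod_cast Nat.lt_one_iff.mp this
  exact Order.height_eq_zero.mp h0

omit [X.Over (Spec (CommRingCat.of k))] [LocallyOfFiniteType (X ↘ Spec (CommRingCat.of k))]
  [IrreducibleSpace X] in
lemma isClosed_singleton_of_isMin {x : X} (hx : IsMin x) : IsClosed ({x} : Set X) := by
  refine closure_subset_iff_isClosed.mp fun y hy => ?_
  have h1 : x ⤳ y := specializes_iff_mem_closure.mpr hy
  exact (Specializes.antisymm (hx h1) h1).eq

include k in
lemma isClosed_singleton_of_ne_genericPoint (hdim : topologicalKrullDim X = 1) {x : X}
    (hx : x ≠ genericPoint X) : IsClosed ({x} : Set X) :=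
  isClosed_singleton_of_isMin (isMin_of_ne_genericPoint k hdim hx)

include k in
lemma coheight_eq_one_of_ne_genericPoint (hdim : topologicalKrullDim X = 1) {x : X}
    (hx : x ≠ genericPoint X) : Order.coheight x = 1 := by
  have hmin := isMin_of_ne_genericPoint k hdim hx
  have h0 : dimPt k X x = 0 := by
    have := height_eq_dimPt k x
    rw [Order.height_eq_zero.mpr hmin] at this
    exact_mod_cast this.symm
  have hmax : ∀ y, dimPt k X y ≤ 1 := fun y =>
    dimPt_genericPoint_of_curve k hdim ▸
      (exists_ltSeries_of_le k (genericPoint_specializes y : y ≤ genericPoint X)).1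
  refine le_antisymm ?_ ?_
  · simpa [h0] using coheight_le_of_forall k (fun y (_ : x ≤ y) => hmax y)
  · simpa [h0, dimPt_genericPoint_of_curve k hdim] using
      le_coheight k (genericPoint_specializes x : x ≤ genericPoint X)

include k in
/-- On a quasi-compact curve a closed subset not containing the generic point is finite. -/
lemma finite_of_isClosed [CompactSpace X] (hdim : topologicalKrullDim X = 1) {Z : Set X}
    (hZ : IsClosed Z) (hη : genericPoint X ∉ Z) : Z.Finite := by
  haveI : IsLocallyNoetherian X := LocallyOfFiniteType.isLocallyNoetherian (X ↘ Spec (CommRingCat.of k))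
  haveI : IsNoetherian X := { }
  obtain ⟨S, hSf, hScl, hSirr, hS⟩ :=
    TopologicalSpace.NoetherianSpace.exists_finite_set_isClosed_irreducible hZ
  rw [hS]
  refine Set.Finite.sUnion hSf fun T hT => ?_
  have hne : (hSirr T hT).genericPoint ≠ genericPoint X := fun h => by
    apply hη
    rw [hS, ← h]
    exact Set.mem_sUnion.mpr ⟨T, hT, by
      have h2 := (hSirr T hT).isGenericPoint_genericPoint_closure.mem
      simp only [(hScl T hT).closure_eq] at h2
      exact h2⟩
  have hgp := (hSirr T hT).isGenericPoint_genericPoint_closure
  rw [IsGenericPoint, (isClosed_singleton_of_ne_genericPoint k hdim hne).closure_eq,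
    (hScl T hT).closure_eq] at hgp
  rw [← hgp]
  exact Set.finite_singleton _

end Curves

end Groth.Agent.VarDim
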