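import Groth.Agent.VarDim.Algebra
import Groth.Prelude.Def_CurvBase
import Groth.Prelude.Def_Flat
import Mathlib.AlgebraicGeometry.Properties
import Mathlib.AlgebraicGeometry.Morphisms.FiniteType
import Mathlib.Topology.KrullDimension

/-!
# Dimension of schemes locally of finite type over a field

For `X` locally of finite type over a field `k` and `dimPt k X x = trdeg_k κ(x)`:
* `height_eq_dimPt`: the height of `x` in the specialisation order is `dimPt k X x`;
* `dimPt_eq_add_one_of_covBy`: immediate specialisations drop it by one;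
* `coheight`, topological dimension consequences.
-/

universe u

open CategoryTheory AlgebraicGeometry

set_option linter.style.haveILetI false

namespace Groth.Agent.VarDim

variable (k : Type u) [Field k] (X : Scheme.{u}) [X.Over (Spec (CommRingCat.of k))]

attribute [local instance] Curv2.resAlgebra

/-- The `k`-algebra structure on the sections over an open subset. -/
noncomputable abbrev secAlgebra (U : X.Opens) : Algebra k Γ(X, U) :=
  ((X.presheaf.map (homOfLE (le_top (a := U))).op).hom.comp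
    (Coh.toGlobal (X ↘ Spec (CommRingCat.of k)))).toAlgebra

attribute [local instance] secAlgebra

/-- The transcendence degree of the residue field, as a natural number. -/
noncomputable def dimPt (x : X) : ℕ := Cardinal.toNat (Algebra.trdeg k (X.residueField x))

lemma evaluation_algebraMap (U : X.Opens) (x : X) (hx : x ∈ U) (c : k) :
    X.evaluation U x hx (algebraMap k Γ(X, U) c) = Curv2.resMap k X x c := by
  change (X.presheaf.germ U x hx ≫ X.residue x).hom ((X.presheaf.map (homOfLE (le_top (a := U))).op).hom _) = _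
  rw [CommRingCat.comp_apply]
  erw [TopCat.Presheaf.germ_res_apply]
  rfl

section Affine

variable {X} {U : X.Opens} (hU : IsAffineOpen U)

include hU in
lemma finiteType_sections [LocallyOfFiniteType (X ↘ Spec (CommRingCat.of k))] :
    Algebra.FiniteType k Γ(X, U) := by
  have h := LocallyOfFiniteType.finiteType_appLE (f := X ↘ Spec (CommRingCat.of k))
    (U := ⊤) (isAffineOpen_top _) (V := U) hU (by simp)
  rw [← RingHom.finiteType_algebraMap]
  have h2 : algebraMap k Γ(X, U) =
      ((X ↘ Spec (CommRingCat.of k)).appLE ⊤ U (by simp)).hom.comp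
        (Scheme.ΓSpecIso (CommRingCat.of k)).inv.hom := rfl
  rw [h2]
  exact h.comp (RingHom.FiniteType.of_surjective _
    (Scheme.ΓSpecIso (CommRingCat.of k)).commRingCatIsoToRingEquiv.symm.surjective)

include hU in
lemma evaluation_eq_zero_iff (x : X) (hx : x ∈ U) (a : Γ(X, U)) :
    X.evaluation U x hx a = 0 ↔ a ∈ (hU.primeIdealOf ⟨x, hx⟩).asIdeal := by
  letI := TopCat.Presheaf.algebra_section_stalk X.presheaf ⟨x, hx⟩
  haveI := hU.isLocalization_stalk ⟨x, hx⟩
  rw [← IsLocalization.AtPrime.to_map_mem_maximal_iff (X.presheaf.stalk x)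
    (hU.primeIdealOf ⟨x, hx⟩).asIdeal a]
  exact Ideal.Quotient.eq_zero_iff_mem

include hU in
lemma exists_evaluation_mul_eq (x : X) (hx : x ∈ U) (z : X.residueField x) :
    ∃ a s : Γ(X, U), s ∉ (hU.primeIdealOf ⟨x, hx⟩).asIdeal ∧
      z * X.evaluation U x hx s = X.evaluation U x hx a := by
  letI := TopCat.Presheaf.algebra_section_stalk X.presheaf ⟨x, hx⟩
  haveI := hU.isLocalization_stalk ⟨x, hx⟩
  obtain ⟨w, rfl⟩ := X.residue_surjective x z
  obtain ⟨⟨a, s⟩, h⟩ := IsLocalization.surj (hU.primeIdealOf ⟨x, hx⟩).asIdeal.primeCompl w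
  exact ⟨a, s, s.2, ((X.residue x).hom.map_mul _ _).symm.trans (congrArg (X.residue x).hom h)⟩

include hU in
lemma trdeg_residueField_eq (x : X) (hx : x ∈ U) :
    Algebra.trdeg k (X.residueField x) =
      Algebra.trdeg k (Γ(X, U) ⧸ (hU.primeIdealOf ⟨x, hx⟩).asIdeal) := by
  set p := (hU.primeIdealOf ⟨x, hx⟩).asIdeal
  let φ : Γ(X, U) ⧸ p →+* X.residueField x :=
    Ideal.Quotient.lift p (X.evaluation U x hx).hom fun a ha => (evaluation_eq_zero_iff hU x hx a).mpr ha
  have hφ : Function.Injective φ := by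
    rw [injective_iff_map_eq_zero]
    intro a ha
    obtain ⟨a, rfl⟩ := Ideal.Quotient.mk_surjective a
    exact Ideal.Quotient.eq_zero_iff_mem.mpr ((evaluation_eq_zero_iff hU x hx a).mp ha)
  letI := φ.toAlgebra
  haveI : IsScalarTower k (Γ(X, U) ⧸ p) (X.residueField x) :=
    IsScalarTower.of_algebraMap_eq fun c => (evaluation_algebraMap k X U x hx c).symm
  haveI : FaithfulSMul (Γ(X, U) ⧸ p) (X.residueField x) :=
    (faithfulSMul_iff_algebraMap_injective _ _).mpr hφ
  haveI : Algebra.IsAlgebraic (Γ(X, U) ⧸ p) (X.residueField x) := ⟨fun z => by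
    obtain ⟨a, s, hs, h⟩ := exists_evaluation_mul_eq hU x hx z
    refine ⟨Polynomial.C (Ideal.Quotient.mk p s) * Polynomial.X - Polynomial.C (Ideal.Quotient.mk p a),
      fun h0 => hs ?_, ?_⟩
    · have := congrArg (fun q => Polynomial.coeff q 1) h0
      simpa [Ideal.Quotient.eq_zero_iff_mem] using this
    · simp only [map_sub, map_mul, Polynomial.aeval_C, Polynomial.aeval_X, RingHom.algebraMap_toAlgebra]
      change X.evaluation U x hx s * z - X.evaluation U x hx a = 0
      rw [mul_comm, h, sub_self]⟩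
  rw [← trdeg_add_eq k (Γ(X, U) ⧸ p), trdeg_eq_zero (R := Γ(X, U) ⧸ p), add_zero]

variable [LocallyOfFiniteType (X ↘ Spec (CommRingCat.of k))]

include hU in
lemma trdeg_quotient_primeIdealOf (x : X) (hx : x ∈ U) :
    Algebra.trdeg k (Γ(X, U) ⧸ (hU.primeIdealOf ⟨x, hx⟩).asIdeal) = dimPt k X x := by
  haveI := finiteType_sections k hU
  haveI := finiteType_quotient k Γ(X, U) (hU.primeIdealOf ⟨x, hx⟩).asIdeal
  obtain ⟨n, -, hn, -⟩ := exists_ringKrullDim_eq_trdeg k (Γ(X, U) ⧸ (hU.primeIdealOf ⟨x, hx⟩).asIdeal)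
  rw [dimPt, trdeg_residueField_eq k hU x hx, hn, Cardinal.toNat_natCast]

omit [LocallyOfFiniteType (X ↘ Spec (CommRingCat.of k))] in
include hU in
lemma primeIdealOf_le_iff (x y : X) (hx : x ∈ U) (hy : y ∈ U) :
    hU.primeIdealOf ⟨x, hx⟩ ≤ hU.primeIdealOf ⟨y, hy⟩ ↔ x ⤳ y := by
  rw [← congrArg₂ (· ⤳ ·) (hU.fromSpec_primeIdealOf ⟨x, hx⟩) (hU.fromSpec_primeIdealOf ⟨y, hy⟩)]
  exact (PrimeSpectrum.le_iff_specializes _ _).trans
    hU.fromSpec.isOpenEmbedding.isInducing.specializes_iff.symm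

omit [LocallyOfFiniteType (X ↘ Spec (CommRingCat.of k))] in
include hU in
lemma exists_eq_primeIdealOf (q : PrimeSpectrum Γ(X, U)) :
    ∃ (y : X) (hy : y ∈ U), hU.primeIdealOf ⟨y, hy⟩ = q := by
  have hy : hU.fromSpec q ∈ U := by
    have : hU.fromSpec q ∈ Set.range hU.fromSpec := ⟨q, rfl⟩
    rwa [hU.range_fromSpec] at this
  exact ⟨_, hy, hU.fromSpec.isOpenEmbedding.injective (hU.fromSpec_primeIdealOf ⟨_, hy⟩)⟩

end Affine

variable [LocallyOfFiniteType (X ↘ Spec (CommRingCat.of k))]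

lemma trdeg_residueField (x : X) : Algebra.trdeg k (X.residueField x) = dimPt k X x := by
  obtain ⟨U, hU, hx, -⟩ := exists_isAffineOpen_mem_and_subset (X := X) (x := x) (U := ⊤) trivial
  rw [trdeg_residueField_eq k hU x hx, trdeg_quotient_primeIdealOf k hU x hx]

variable {X}

/-- An immediate specialisation drops the transcendence degree by one. -/
lemma dimPt_eq_add_one_of_covBy {x y : X} (h : y ⋖ x) : dimPt k X x = dimPt k X y + 1 := by
  obtain ⟨U, hU, hy, -⟩ := exists_isAffineOpen_mem_and_subset (X := X) (x := y) (U := ⊤) trivial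
  have hx : x ∈ U := h.le.mem_open U.2 hy
  haveI := finiteType_sections k hU
  have hcov : hU.primeIdealOf ⟨x, hx⟩ ⋖ hU.primeIdealOf ⟨y, hy⟩ := by
    refine ⟨⟨(primeIdealOf_le_iff hU x y hx hy).mpr h.le, ?_⟩, ?_⟩
    · exact fun h' => h.lt.not_ge ((primeIdealOf_le_iff hU y x hy hx).mp h')
    · intro q h1 h2
      obtain ⟨z, hz, rfl⟩ := exists_eq_primeIdealOf hU q
      rw [lt_iff_le_not_ge, primeIdealOf_le_iff, primeIdealOf_le_iff] at h1 h2
      exact h.2 (c := z) (lt_iff_le_not_ge.mpr ⟨h2.1, h2.2⟩) (lt_iff_le_not_ge.mpr ⟨h1.1, h1.2⟩)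
  have := trdeg_quotient_of_covBy k Γ(X, U) hcov
  rw [trdeg_quotient_primeIdealOf k hU x hx, trdeg_quotient_primeIdealOf k hU y hy] at this
  exact_mod_cast this.symm

/-- A chain of specialisations from `x` down to `y` of length `dimPt x - dimPt y` exists. -/
lemma exists_ltSeries_of_le {x y : X} (h : y ≤ x) :
    dimPt k X y ≤ dimPt k X x ∧ ∃ l : LTSeries X, l.head = y ∧ l.last ≤ x ∧
      dimPt k X y + l.length = dimPt k X x := by
  obtain ⟨U, hU, hy, -⟩ := exists_isAffineOpen_mem_and_subset (X := X) (x := y) (U := ⊤) trivial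
  have hx : x ∈ U := h.mem_open U.2 hy
  haveI := finiteType_sections k hU
  set P := hU.primeIdealOf ⟨x, hx⟩
  set Q := hU.primeIdealOf ⟨y, hy⟩
  have hPQ : P.asIdeal ≤ Q.asIdeal := (primeIdealOf_le_iff hU x y hx hy).mpr h
  haveI := finiteType_quotient k Γ(X, U) P.asIdeal
  haveI : (Q.asIdeal.map (Ideal.Quotient.mk P.asIdeal)).IsPrime :=
    Ideal.map_isPrime_of_surjective Ideal.Quotient.mk_surjective (by rwa [Ideal.mk_ker])
  obtain ⟨n, hn, hn'⟩ :=
    trdeg_quotient_add_height k (Γ(X, U) ⧸ P.asIdeal) (Q.asIdeal.map (Ideal.Quotient.mk P.asIdeal))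
  rw [trdeg_quotient_quotient k Γ(X, U) hPQ, trdeg_quotient_primeIdealOf k hU x hx,
    trdeg_quotient_primeIdealOf k hU y hy] at hn'
  have hn'' : dimPt k X y + n = dimPt k X x := by exact_mod_cast hn'
  refine ⟨by omega, ?_⟩
  haveI : IsNoetherianRing (Γ(X, U) ⧸ P.asIdeal) := Algebra.FiniteType.isNoetherianRing k _
  obtain ⟨l, hl1, hl2⟩ := Order.exists_series_of_height_eq_coe
    (⟨_, ‹_›⟩ : PrimeSpectrum (Γ(X, U) ⧸ P.asIdeal))
    ((PrimeSpectrum.height_eq_orderHeight _).symm.trans hn)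
  let g : (PrimeSpectrum (Γ(X, U) ⧸ P.asIdeal))ᵒᵈ → X :=
    fun q => hU.fromSpec (PrimeSpectrum.comap (Ideal.Quotient.mk P.asIdeal) (OrderDual.ofDual q))
  have hg : StrictMono g := by
    intro a b hab
    obtain ⟨ya, hya, ea⟩ := exists_eq_primeIdealOf hU
      (PrimeSpectrum.comap (Ideal.Quotient.mk P.asIdeal) (OrderDual.ofDual a))
    obtain ⟨yb, hyb, eb⟩ := exists_eq_primeIdealOf hU
      (PrimeSpectrum.comap (Ideal.Quotient.mk P.asIdeal) (OrderDual.ofDual b))
    have h1 := RingHom.strictMono_comap_of_surjective (f := Ideal.Quotient.mk P.asIdeal)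
      Ideal.Quotient.mk_surjective (OrderDual.ofDual_lt_ofDual.mpr hab)
    change hU.fromSpec _ < hU.fromSpec _
    rw [← ea, ← eb, hU.fromSpec_primeIdealOf ⟨ya, hya⟩, hU.fromSpec_primeIdealOf ⟨yb, hyb⟩]
    rw [← ea, ← eb, lt_iff_le_not_ge, primeIdealOf_le_iff, primeIdealOf_le_iff] at h1
    exact lt_iff_le_not_ge.mpr h1
  refine ⟨LTSeries.map (LTSeries.mk l.length (fun i => OrderDual.toDual (l i.rev))
    (fun i j hij => l.strictMono (Fin.rev_lt_rev.mpr hij))) g hg, ?_, ?_, ?_⟩
  · have : PrimeSpectrum.comap (Ideal.Quotient.mk P.asIdeal) (l (Fin.last _)) = Q := by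
      have hl : l (Fin.last _) = _ := hl1
      rw [hl]
      ext1
      change Ideal.comap (Ideal.Quotient.mk P.asIdeal) (Ideal.map (Ideal.Quotient.mk P.asIdeal) Q.asIdeal) = _
      rw [Ideal.comap_map_of_surjective _ Ideal.Quotient.mk_surjective, ← RingHom.ker_eq_comap_bot,
        Ideal.mk_ker, sup_eq_left.mpr hPQ]
    simp only [LTSeries.head_map, g]
    change hU.fromSpec (PrimeSpectrum.comap _ (l (Fin.rev 0))) = y
    rw [Fin.rev_zero, this]
    exact hU.fromSpec_primeIdealOf ⟨y, hy⟩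
  · obtain ⟨z, hz, ez⟩ := exists_eq_primeIdealOf hU
      (PrimeSpectrum.comap (Ideal.Quotient.mk P.asIdeal) (l (Fin.rev (Fin.last _))))
    simp only [LTSeries.last_map, g]
    change hU.fromSpec (PrimeSpectrum.comap _ (l (Fin.rev (Fin.last _)))) ≤ x
    rw [← ez, hU.fromSpec_primeIdealOf ⟨z, hz⟩]
    refine (primeIdealOf_le_iff hU x z hx hz).mp ?_
    rw [ez]
    intro a ha
    change Ideal.Quotient.mk P.asIdeal a ∈ (l (Fin.rev (Fin.last _))).asIdeal
    rw [Ideal.Quotient.eq_zero_iff_mem.mpr ha]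
    exact zero_mem _
  · change _ + l.length = _
    rw [hl2]; exact hn''

lemma dimPt_lt_of_lt {x y : X} (h : y < x) : dimPt k X y < dimPt k X x := by
  obtain ⟨hle, l, hl1, hl2, hl3⟩ := exists_ltSeries_of_le k h.le
  refine lt_of_le_of_ne hle fun he => ?_
  obtain ⟨U, hU, hy, -⟩ := exists_isAffineOpen_mem_and_subset (X := X) (x := y) (U := ⊤) trivial
  have hx : x ∈ U := h.le.mem_open U.2 hy
  haveI := finiteType_sections k hU
  set P := hU.primeIdealOf ⟨x, hx⟩
  set Q := hU.primeIdealOf ⟨y, hy⟩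
  have hPQ : P.asIdeal ≤ Q.asIdeal := (primeIdealOf_le_iff hU x y hx hy).mpr h.le
  haveI := finiteType_quotient k Γ(X, U) P.asIdeal
  haveI : (Q.asIdeal.map (Ideal.Quotient.mk P.asIdeal)).IsPrime :=
    Ideal.map_isPrime_of_surjective Ideal.Quotient.mk_surjective (by rwa [Ideal.mk_ker])
  obtain ⟨n, hn, hn'⟩ :=
    trdeg_quotient_add_height k (Γ(X, U) ⧸ P.asIdeal) (Q.asIdeal.map (Ideal.Quotient.mk P.asIdeal))
  rw [trdeg_quotient_quotient k Γ(X, U) hPQ, trdeg_quotient_primeIdealOf k hU x hx,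
    trdeg_quotient_primeIdealOf k hU y hy, he] at hn'
  obtain rfl : n = 0 := by
    have : dimPt k X x + n = dimPt k X x := by exact_mod_cast hn'
    omega
  rw [Nat.cast_zero, Ideal.height_eq_zero_iff_eq_bot, Ideal.map_eq_bot_iff_le_ker, Ideal.mk_ker] at hn
  exact h.not_ge ((primeIdealOf_le_iff hU y x hy hx).mp hn)

lemma strictMono_dimPt : StrictMono (dimPt k X) := fun _ _ h => dimPt_lt_of_lt k h

/-- Inside any open neighbourhood of `x` there is a specialisation of `x` with `dimPt = 0`. -/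
lemma exists_le_dimPt_eq_zero (x : X) (V : X.Opens) (hxV : x ∈ V) :
    ∃ y ≤ x, y ∈ V ∧ dimPt k X y = 0 := by
  obtain ⟨U, hU, hx, hUV⟩ := exists_isAffineOpen_mem_and_subset hxV
  haveI := finiteType_sections k hU
  obtain ⟨M, hM, hle⟩ := Ideal.exists_le_maximal _ (hU.primeIdealOf ⟨x, hx⟩).isPrime.ne_top
  obtain ⟨y, hy, he⟩ := exists_eq_primeIdealOf hU ⟨M, hM.isPrime⟩
  refine ⟨y, (primeIdealOf_le_iff hU x y hx hy).mp (by rw [he]; exact hle), hUV hy, ?_⟩
  haveI := finiteType_quotient k Γ(X, U) M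
  obtain ⟨n, hn1, hn2, -⟩ := exists_ringKrullDim_eq_trdeg k (Γ(X, U) ⧸ M)
  rw [ringKrullDim_eq_zero_of_isField ((Ideal.Quotient.maximal_ideal_iff_isField_quotient _).mp hM)] at hn1
  have h2 := trdeg_quotient_primeIdealOf k hU y hy
  rw [he, hn2] at h2
  have : n = dimPt k X y := by exact_mod_cast h2
  have h0 : n = 0 := by exact_mod_cast hn1.symm
  omega

lemma dimPt_add_length_le (l : LTSeries X) :
    dimPt k X l.head + l.length ≤ dimPt k X l.last := by
  simpa [Nat.add_comm] using LTSeries.head_add_length_le_nat (l.map _ (strictMono_dimPt k))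

/-- The height of a point in the specialisation order is the transcendence degree of its residue field. -/
lemma height_eq_dimPt (x : X) : Order.height x = dimPt k X x := by
  refine le_antisymm ?_ ?_
  · refine (Order.height_le_height_apply_of_strictMono _ (strictMono_dimPt k) x).trans ?_
    rw [Order.height_nat]
  · obtain ⟨y, hyx, -, hy⟩ := exists_le_dimPt_eq_zero k x ⊤ trivial
    obtain ⟨-, l, hl1, hl2, hl3⟩ := exists_ltSeries_of_le k hyx
    rw [hy, zero_add] at hl3
    exact hl3 ▸ Order.length_le_height hl2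

lemma coheight_le_of_forall {x : X} {n : ℕ} (h : ∀ y, x ≤ y → dimPt k X y ≤ n) :
    Order.coheight x ≤ (n - dimPt k X x : ℕ) := by
  refine Order.coheight_le fun l hl => ?_
  have h1 := dimPt_add_length_le k l
  have h2 := h l.last (hl ▸ l.head_le_last)
  rw [hl] at h1
  exact_mod_cast (by omega : l.length ≤ n - dimPt k X x)

lemma le_coheight {x y : X} (h : x ≤ y) :
    ((dimPt k X y - dimPt k X x : ℕ) : ℕ∞) ≤ Order.coheight x := by
  obtain ⟨hle, l, hl1, hl2, hl3⟩ := exists_ltSeries_of_le k h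
  refine le_trans ?_ (Order.length_le_coheight (p := l) hl1.ge)
  exact_mod_cast (by omega : dimPt k X y - dimPt k X x ≤ l.length)

omit [X.Over (Spec (CommRingCat.of k))] [LocallyOfFiniteType (X ↘ Spec (CommRingCat.of k))] in
/-- The topological Krull dimension of a scheme is the dimension of its specialisation order. -/
lemma topologicalKrullDim_eq_krullDim : topologicalKrullDim X = Order.krullDim X :=
  Order.krullDim_eq_of_orderIso irreducibleSetEquivPoints

lemma topologicalKrullDim_eq_iSup : topologicalKrullDim X = ⨆ x : X, (dimPt k X x : WithBot ℕ∞) := by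
  rw [topologicalKrullDim_eq_krullDim, Order.krullDim_eq_iSup_height]
  simp only [height_eq_dimPt k]
  rfl

lemma topologicalKrullDim_eq_of_irreducible [IrreducibleSpace X] :
    topologicalKrullDim X = dimPt k X (genericPoint X) := by
  rw [topologicalKrullDim_eq_iSup k]
  refine le_antisymm (iSup_le fun x => ?_) (le_iSup_of_le (genericPoint X) le_rfl)
  exact_mod_cast (exists_ltSeries_of_le k (genericPoint_specializes x : x ≤ genericPoint X)).1

omit [X.Over (Spec (CommRingCat.of k))] [LocallyOfFiniteType (X ↘ Spec (CommRingCat.of k))] in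
lemma topologicalKrullDim_opens (U : X.Opens) :
    topologicalKrullDim (U : Set X) = Order.krullDim (U : Scheme.{u}) :=
  Order.krullDim_eq_of_orderIso (irreducibleSetEquivPoints (α := (U : Scheme.{u})))

omit [X.Over (Spec (CommRingCat.of k))] [LocallyOfFiniteType (X ↘ Spec (CommRingCat.of k))] in
lemma strictMono_opens_ι (U : X.Opens) : StrictMono (⇑U.ι.base) := by
  refine fun a b hab => lt_iff_le_not_ge.mpr ⟨?_, ?_⟩
  · exact (U.ι.isOpenEmbedding.isInducing.specializes_iff).mpr hab.le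
  · exact fun h => hab.not_ge ((U.ι.isOpenEmbedding.isInducing.specializes_iff).mp h)

/-- Lower bound for the dimension of an open: any generisation of any of its points contributes. -/
lemma le_topologicalKrullDim_opens (U : X.Opens) {x η : X} (hx : x ∈ U) (h : x ≤ η) :
    (dimPt k X η : WithBot ℕ∞) ≤ topologicalKrullDim (U : Set X) := by
  obtain ⟨y, hyx, hyU, hy0⟩ := exists_le_dimPt_eq_zero k x U hx
  obtain ⟨-, l, hl1, hl2, hl3⟩ := exists_ltSeries_of_le k (hyx.trans h)
  have hmem : ∀ i, l i ∈ U := fun i => (hl1 ▸ l.head_le i : y ≤ l i).mem_open U.2 hyU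
  let g : Fin (l.length + 1) → (U : Scheme.{u}) := fun i => ⟨l i, hmem i⟩
  let L : LTSeries (U : Scheme.{u}) := LTSeries.mk l.length g fun i j hij => by
    refine lt_iff_le_not_ge.mpr ⟨?_, ?_⟩
    · exact (U.ι.isOpenEmbedding.isInducing.specializes_iff).mp (l.strictMono hij).le
    · exact fun h' => (l.strictMono hij).not_ge ((U.ι.isOpenEmbedding.isInducing.specializes_iff).mpr h')
  rw [topologicalKrullDim_opens]
  refine le_trans ?_ (Order.LTSeries.length_le_krullDim L)
  rw [hy0, zero_add] at hl3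
  exact_mod_cast hl3.ge

lemma topologicalKrullDim_opens_le (U : X.Opens) {n : ℕ} (h : ∀ z ∈ U, dimPt k X z ≤ n) :
    topologicalKrullDim (U : Set X) ≤ n := by
  rw [topologicalKrullDim_opens, Order.krullDim]
  refine iSup_le fun l => ?_
  have h1 := dimPt_add_length_le k (l.map _ (strictMono_opens_ι U))
  have h2 := h _ ((l.last).2 : (l.map _ (strictMono_opens_ι U)).last ∈ U)
  have : (l.map _ (strictMono_opens_ι U)).length = l.length := rfl
  have h3 : l.length ≤ n := by rw [← this]; exact (le_add_self.trans h1).trans h2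
  exact_mod_cast h3

/-- The generisations of a point reach a maximum, and the local dimension is that maximum. -/
lemma exists_localDim_eq (x : X) :
    ∃ η, x ≤ η ∧ (∀ y, x ≤ y → dimPt k X y ≤ dimPt k X η) ∧ FlatMor.localDim X x = dimPt k X η := by
  obtain ⟨V, hV, hx, -⟩ := exists_isAffineOpen_mem_and_subset (X := X) (x := x) (U := ⊤) trivial
  haveI := finiteType_sections k hV
  haveI : IsNoetherianRing Γ(X, V) := Algebra.FiniteType.isNoetherianRing k _
  set P := hV.primeIdealOf ⟨x, hx⟩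
  choose pt hpt hpteq using exists_eq_primeIdealOf hV
  let good : Set (PrimeSpectrum Γ(X, V)) := {q | q.asIdeal ∈ minimalPrimes Γ(X, V)}
  have hfin : good.Finite :=
    ((minimalPrimes.finite_of_isNoetherianRing Γ(X, V)).preimage
      (fun a _ b _ h => PrimeSpectrum.ext h))
  have habove : ∀ q, ∃ m ∈ good, m ≤ q := fun q => by
    obtain ⟨m, hm, hmq⟩ := Ideal.exists_minimalPrimes_le (bot_le : (⊥ : Ideal _) ≤ q.asIdeal)
    exact ⟨⟨m, hm.1.1⟩, hm, hmq⟩
  let S := {q | q ∈ good ∧ q ≤ P}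
  have hS : S.Nonempty := by obtain ⟨m, h1, h2⟩ := habove P; exact ⟨m, h1, h2⟩
  obtain ⟨q0, hq0, hmax⟩ :=
    Set.exists_max_image S (fun q => dimPt k X (pt q)) (hfin.subset fun q hq => hq.1) hS
  have hxle : x ≤ pt q0 :=
    (primeIdealOf_le_iff hV (pt q0) x (hpt q0) hx).mp (by rw [hpteq]; exact hq0.2)
  have hub : ∀ y, x ≤ y → dimPt k X y ≤ dimPt k X (pt q0) := by
    intro y hy
    have hyV : y ∈ V := hy.mem_open V.2 hx
    obtain ⟨m, hm, hmle⟩ := habove (hV.primeIdealOf ⟨y, hyV⟩)
    have h1 : hV.primeIdealOf ⟨y, hyV⟩ ≤ P := (primeIdealOf_le_iff hV y x hyV hx).mpr hy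
    refine le_trans ?_ (hmax m ⟨hm, hmle.trans h1⟩)
    refine (exists_ltSeries_of_le k ((primeIdealOf_le_iff hV (pt m) y (hpt m) hyV).mp ?_)).1
    rw [hpteq]; exact hmle
  refine ⟨pt q0, hxle, hub, le_antisymm ?_ ?_⟩
  · let W : X.Opens := ⟨(V : Set X) \ ⋃ q ∈ {q ∈ good | ¬ q ≤ P}, closure {pt q},
      V.2.sdiff ((hfin.subset fun q hq => hq.1).isClosed_biUnion fun q _ => isClosed_closure)⟩
    have hxW : x ∈ W := by
      refine ⟨hx, ?_⟩
      simp only [Set.mem_iUnion, not_exists]
      rintro q ⟨-, hq⟩ hcl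
      apply hq
      have := (primeIdealOf_le_iff hV (pt q) x (hpt q) hx).mpr (specializes_iff_mem_closure.mpr hcl)
      rwa [hpteq] at this
    refine (iInf_le_of_le ⟨W, hxW⟩ le_rfl).trans (topologicalKrullDim_opens_le k W fun z hz => ?_)
    obtain ⟨m, hm, hmle⟩ := habove (hV.primeIdealOf ⟨z, hz.1⟩)
    have hzm : z ≤ pt m := (primeIdealOf_le_iff hV (pt m) z (hpt m) hz.1).mp (by rw [hpteq]; exact hmle)
    refine ((exists_ltSeries_of_le k hzm).1).trans (hmax m ⟨hm, ?_⟩)
    by_contra hmP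
    exact hz.2 (Set.mem_biUnion (s := {q ∈ good | ¬ q ≤ P}) (t := fun q => closure {pt q}) ⟨hm, hmP⟩
      (specializes_iff_mem_closure.mp hzm))
  · exact le_iInf fun U => le_topologicalKrullDim_opens k U.1 U.2 hxle

/-- The local dimension is the sum of `trdeg κ(x)` and the dimension of the local ring. -/
lemma localDim_eq_coheight_add (x : X) :
    ∃ n : ℕ, Order.coheight x = n ∧ FlatMor.localDim X x = (n + dimPt k X x : ℕ) := by
  obtain ⟨η, hle, hub, heq⟩ := exists_localDim_eq k x
  refine ⟨dimPt k X η - dimPt k X x, le_antisymm (coheight_le_of_forall k hub) (le_coheight k hle), ?_⟩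
  rw [heq, Nat.sub_add_cancel (hub x le_rfl)]

end Groth.Agent.VarDim
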