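import Mathlib.RingTheory.NoetherNormalization
import Mathlib.RingTheory.Ideal.KrullsHeightTheorem
import Mathlib.RingTheory.Ideal.HasGoingUp
import Mathlib.RingTheory.IntegralClosure.GoingDown
import Mathlib.RingTheory.KrullDimension.Polynomial
import Mathlib.RingTheory.Jacobson.Ring
import Mathlib.RingTheory.AlgebraicIndependent.TranscendenceBasis
import Mathlib.RingTheory.Polynomial.UniqueFactorization
import Mathlib.Algebra.MvPolynomial.NoZeroDivisors
import Mathlib.RingTheory.KrullDimension.Field
import Mathlib.RingTheory.Polynomial.RationalRoot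
import Mathlib.RingTheory.KrullDimension.NonZeroDivisors

/-!
# Dimension theory of finitely generated domains over a field

* `height_comap_of_isIntegral`, `ringKrullDim_eq_of_isIntegral`
* `exists_ringKrullDim_eq_trdeg`: for a fg domain over a field, `ringKrullDim = trdeg`
* `ringKrullDim_quotient_add_height`: `dim A/P + ht P = dim A`
* `height_eq_ringKrullDim_of_isMaximal`
-/

namespace Groth.Agent.VarDim

set_option linter.style.haveILetI false

open Order hiding Ideal

section Integral

variable {R S : Type*} [CommRing R] [CommRing S] [Algebra R S]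

lemma strictMono_comap_of_isIntegral [Algebra.IsIntegral R S] :
    StrictMono (PrimeSpectrum.comap (algebraMap R S)) :=
  fun _ _ h => Ideal.IsIntegral.comap_lt_comap h

lemma height_le_height_under_of_isIntegral [Algebra.IsIntegral R S] (P : Ideal S) [P.IsPrime] :
    P.height ≤ (P.under R).height := by
  rw [(⟨P, ‹_›⟩ : PrimeSpectrum S).height_eq_orderHeight,
    (⟨P.under R, inferInstance⟩ : PrimeSpectrum R).height_eq_orderHeight]
  exact height_le_height_apply_of_strictMono (PrimeSpectrum.comap (algebraMap R S))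
    strictMono_comap_of_isIntegral _

lemma height_under_le_of_hasGoingDown [Algebra.HasGoingDown R S] (P : Ideal S) [P.IsPrime] :
    (P.under R).height ≤ P.height := by
  rw [(⟨P, ‹_›⟩ : PrimeSpectrum S).height_eq_orderHeight,
    (⟨P.under R, inferInstance⟩ : PrimeSpectrum R).height_eq_orderHeight, Order.height_le_iff]
  intro l hl
  obtain ⟨l', hl', hlast⟩ : ∃ l' : LTSeries (PrimeSpectrum R), l.length ≤ l'.length ∧
      l'.last = ⟨P.under R, inferInstance⟩ := by
    rcases eq_or_lt_of_le hl with h | h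
    · exact ⟨l, le_rfl, h⟩
    · exact ⟨l.snoc _ h, by simp, by simp⟩
  haveI : P.LiesOver l'.last.asIdeal := ⟨by rw [hlast]⟩
  obtain ⟨L, hL, hLlast, -⟩ := Ideal.exists_ltSeries_of_hasGoingDown l' P
  refine le_trans ?_ (Order.length_le_height (p := L) hLlast.le)
  rw [hL]; exact_mod_cast hl'

lemma height_under_of_isIntegral [IsDomain S] [FaithfulSMul R S] [Algebra.IsIntegral R S]
    [IsIntegrallyClosed R] (P : Ideal S) [P.IsPrime] : (P.under R).height = P.height :=
  le_antisymm (height_under_le_of_hasGoingDown P) (height_le_height_under_of_isIntegral P)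

/-- Integral extensions preserve the Krull dimension. -/
lemma ringKrullDim_eq_of_isIntegral [FaithfulSMul R S] [Algebra.IsIntegral R S] :
    ringKrullDim S = ringKrullDim R := by
  refine le_antisymm (Order.krullDim_le_of_strictMono _ strictMono_comap_of_isIntegral) ?_
  refine iSup_le fun l => ?_
  obtain ⟨P, hP, hcomap⟩ := Ideal.exists_ideal_over_prime_of_isIntegral l.head.asIdeal (⊥ : Ideal S)
    (by simp [← RingHom.ker_eq_comap_bot,
      (RingHom.injective_iff_ker_eq_bot _).mp (FaithfulSMul.algebraMap_injective R S)])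
  haveI := hcomap.1
  haveI : P.LiesOver l.head.asIdeal := ⟨hcomap.2.symm⟩
  obtain ⟨L, hL, -, -⟩ := Ideal.exists_ltSeries_of_hasGoingUp l P
  rw [← hL]
  exact le_iSup (fun p : LTSeries (PrimeSpectrum S) => (p.length : WithBot ℕ∞)) L

end Integral

section MvPoly

variable (k : Type*) [Field k]

lemma height_eq_of_isMaximal_mvPolynomial : ∀ (n : ℕ) (M : Ideal (MvPolynomial (Fin n) k)),
    M.IsMaximal → M.height = n
  | 0, M, hM => by
      have h : IsField (MvPolynomial (Fin 0) k) :=
        MulEquiv.isField (Field.toIsField k) (MvPolynomial.isEmptyAlgEquiv k (Fin 0)).toMulEquiv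
      letI := h.toField
      rw [(Ideal.eq_bot_or_top M).resolve_right hM.ne_top, Ideal.height_bot, Nat.cast_zero]
  | n + 1, M, hM => by
      let e := (MvPolynomial.finSuccEquiv k n).toRingEquiv
      have hM' : (M.map e).IsMaximal := Ideal.map_isMaximal_of_equiv e
      haveI : (M.map e).IsMaximal := hM'
      haveI : ((M.map e).under (MvPolynomial (Fin n) k)).IsMaximal :=
        Polynomial.isMaximal_comap_C_of_isJacobsonRing _
      haveI : (M.map e).LiesOver ((M.map e).under (MvPolynomial (Fin n) k)) := ⟨rfl⟩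
      rw [← RingEquiv.height_map e M,
        Polynomial.height_eq_height_add_one ((M.map e).under (MvPolynomial (Fin n) k)) (M.map e),
        height_eq_of_isMaximal_mvPolynomial n _ ‹_›, Nat.cast_add, Nat.cast_one]

variable {k}

lemma mem_vars_iff_degreeOf_ne_zero {σ : Type*} (i : σ) (f : MvPolynomial σ k) :
    i ∈ f.vars ↔ MvPolynomial.degreeOf i f ≠ 0 := by
  classical
  rw [MvPolynomial.vars_def, MvPolynomial.degreeOf_def, Multiset.mem_toFinset, Multiset.count_ne_zero]

lemma exists_degreeOf_ne_zero {n : ℕ} {f : MvPolynomial (Fin n) k} (hf0 : f ≠ 0) (hfu : ¬ IsUnit f) :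
    ∃ i, MvPolynomial.degreeOf i f ≠ 0 := by
  by_contra! h
  have : f.vars = ∅ := Finset.eq_empty_of_forall_notMem fun i hi => by
    rw [mem_vars_iff_degreeOf_ne_zero] at hi
    exact hi (h i)
  rw [MvPolynomial.vars_eq_empty_iff_eq_C] at this
  apply hfu
  rw [this]
  refine IsUnit.map _ (isUnit_iff_ne_zero.mpr fun h0 => hf0 ?_)
  rw [this, h0, map_zero]

end MvPoly

section FG

variable (k A : Type*) [Field k] [CommRing A] [IsDomain A] [Algebra k A]
  [Algebra.FiniteType k A]

lemma exists_noether : ∃ (s : ℕ) (g : MvPolynomial (Fin s) k →ₐ[k] A), Function.Injective g ∧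
    g.Finite := exists_finite_inj_algHom_of_fg k A

end FG

section FGu

universe v
variable (k A : Type v) [Field k] [CommRing A] [IsDomain A] [Algebra k A]
  [Algebra.FiniteType k A]

/-- The Krull dimension of a finitely generated domain over a field is its transcendence degree,
and all its maximal ideals have height equal to it. -/
lemma exists_ringKrullDim_eq_trdeg : ∃ n : ℕ, ringKrullDim A = n ∧ Algebra.trdeg k A = n ∧
    ∀ M : Ideal A, M.IsMaximal → M.height = n := by
  obtain ⟨s, g, inj, fin⟩ := exists_noether k A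
  algebraize [g.toRingHom]
  haveI : IsScalarTower k (MvPolynomial (Fin s) k) A :=
    IsScalarTower.of_algebraMap_eq fun x => (g.commutes x).symm
  haveI : FaithfulSMul (MvPolynomial (Fin s) k) A :=
    (faithfulSMul_iff_algebraMap_injective _ _).mpr inj
  haveI : Module.Finite (MvPolynomial (Fin s) k) A := fin
  refine ⟨s, ?_, ?_, fun M hM => ?_⟩
  · rw [ringKrullDim_eq_of_isIntegral (R := MvPolynomial (Fin s) k),
      MvPolynomial.ringKrullDim_of_isNoetherianRing, ringKrullDim_eq_zero_of_field]
    simp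
  · rw [← trdeg_add_eq k (MvPolynomial (Fin s) k), trdeg_eq_zero (R := MvPolynomial (Fin _) k) (A := A), add_zero,
      MvPolynomial.trdeg_of_isDomain]
    simp
  · rw [← height_under_of_isIntegral (R := MvPolynomial (Fin s) k)]
    exact height_eq_of_isMaximal_mvPolynomial k s _
      (Ideal.isMaximal_comap_of_isIntegral_of_isMaximal M)

include k in
lemma height_eq_ringKrullDim_of_isMaximal (M : Ideal A) [hM : M.IsMaximal] :
    (M.height : WithBot ℕ∞) = ringKrullDim A := by
  obtain ⟨n, h1, -, h3⟩ := exists_ringKrullDim_eq_trdeg k A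
  rw [h1, h3 M hM]; rfl

lemma ringKrullDim_eq_of_trdeg_eq {n : ℕ} (h : Algebra.trdeg k A = n) : ringKrullDim A = n := by
  obtain ⟨m, h1, h2, -⟩ := exists_ringKrullDim_eq_trdeg k A
  rw [h1, Nat.cast_inj.mp (h.symm.trans h2)]

lemma trdeg_eq_of_ringKrullDim_eq {n : ℕ} (h : ringKrullDim A = n) : Algebra.trdeg k A = n := by
  obtain ⟨m, h1, h2, -⟩ := exists_ringKrullDim_eq_trdeg k A
  rw [h2, Nat.cast_inj]
  exact_mod_cast h1.symm.trans h

omit [IsDomain A] in
lemma finiteType_quotient (P : Ideal A) : Algebra.FiniteType k (A ⧸ P) :=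
  Algebra.FiniteType.of_surjective (Ideal.Quotient.mkₐ k P) Ideal.Quotient.mk_surjective

/-- Cutting by a height one prime drops the transcendence degree by exactly one. -/
lemma trdeg_quotient_of_height_eq_one (P : Ideal A) [P.IsPrime] (hP : P.height = 1) :
    Algebra.trdeg k (A ⧸ P) + 1 = Algebra.trdeg k A := by
  obtain ⟨s, g, inj, fin⟩ := exists_noether k A
  algebraize [g.toRingHom]
  haveI : IsScalarTower k (MvPolynomial (Fin s) k) A :=
    IsScalarTower.of_algebraMap_eq fun x => (g.commutes x).symm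
  haveI : FaithfulSMul (MvPolynomial (Fin s) k) A :=
    (faithfulSMul_iff_algebraMap_injective _ _).mpr inj
  haveI : Module.Finite (MvPolynomial (Fin s) k) A := fin
  set q := P.under (MvPolynomial (Fin s) k) with hq
  have hq1 : q.height = 1 := (height_under_of_isIntegral P).trans hP
  obtain ⟨f, hfq, hfp⟩ := Ideal.IsPrime.exists_mem_prime_of_ne_bot (inferInstanceAs q.IsPrime)
    (Ideal.ne_bot_of_height_eq_one hq1)
  haveI := (Ideal.span_singleton_prime hfp.ne_zero).mpr hfp
  haveI : q.FiniteHeight := Ideal.finiteHeight_iff_lt.mpr (Or.inr (by rw [hq1]; exact ENat.natCast_lt_top 1))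
  haveI : (Ideal.span {f}).FiniteHeight := Ideal.finiteHeight_of_le
    ((Ideal.span_singleton_le_iff_mem _).mpr hfq) Ideal.IsPrime.ne_top'
  have hqf : q = Ideal.span {f} := by
    refine (Ideal.eq_of_le_of_height_le (I := Ideal.span {f}) ?_ ?_).symm
    · exact (Ideal.span_singleton_le_iff_mem _).mpr hfq
    · rw [hq1]
      exact Ideal.one_le_height_span_singleton_of_mem_nonZeroDivisors
        (mem_nonZeroDivisors_of_ne_zero hfp.ne_zero)
  obtain ⟨i, hi⟩ := exists_degreeOf_ne_zero hfp.ne_zero hfp.not_isUnit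
  obtain ⟨m, hm⟩ : ∃ m, s = m + 1 := ⟨s - 1, by have := i.2; omega⟩
  subst hm
  have hAind : Function.Injective ((Ideal.Quotient.mkₐ k P).comp ((IsScalarTower.toAlgHom k _ A).comp
      (MvPolynomial.rename (R := k) i.succAbove))) := by
    rw [injective_iff_map_eq_zero]
    intro x hx
    by_contra hx0
    have hxq : MvPolynomial.rename i.succAbove x ∈ q := by
      rw [hq, Ideal.mem_comap, ← Ideal.Quotient.eq_zero_iff_mem]
      exact hx
    rw [hqf, Ideal.mem_span_singleton] at hxq
    obtain ⟨c, hc⟩ := hxq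
    have hr0 : MvPolynomial.rename i.succAbove x ≠ 0 := by
      simpa using (MvPolynomial.rename_injective _ (Fin.succAbove_right_injective (p := i))).ne hx0
    have hc0 : c ≠ 0 := by rintro rfl; simp [hr0] at hc
    have hdeg : MvPolynomial.degreeOf i (MvPolynomial.rename i.succAbove x) = 0 := by
      by_contra h
      rw [← ne_eq, ← mem_vars_iff_degreeOf_ne_zero] at h
      classical
      have := MvPolynomial.vars_rename i.succAbove x h
      simp [Fin.succAbove_ne] at this
    rw [hc, MvPolynomial.degreeOf_mul_eq hfp.ne_zero hc0] at hdeg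
    omega
  haveI := finiteType_quotient k A P
  obtain ⟨d, hd1, hd2, -⟩ := exists_ringKrullDim_eq_trdeg k (A ⧸ P)
  obtain ⟨n, hn1, hn2, -⟩ := exists_ringKrullDim_eq_trdeg k A
  have hle : (m : Cardinal) ≤ Algebra.trdeg k (A ⧸ P) := by
    simpa [MvPolynomial.trdeg_of_isDomain] using trdeg_le_of_injective _ hAind
  have hnm : n = m + 1 := by
    have h : Algebra.trdeg k A = (m + 1 : ℕ) := by
      rw [← trdeg_add_eq k (MvPolynomial (Fin (m + 1)) k), trdeg_eq_zero (R := MvPolynomial (Fin _) k) (A := A), add_zero,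
        MvPolynomial.trdeg_of_isDomain]
      simp
    exact Nat.cast_inj.mp (hn2.symm.trans h)
  have hlt : ringKrullDim (A ⧸ P) + 1 ≤ ringKrullDim A := by
    have hP0 : (⊥ : Ideal A) < P := bot_lt_iff_ne_bot.mpr (Ideal.ne_bot_of_height_eq_one hP)
    obtain ⟨x, hxP, hx0⟩ := Submodule.exists_mem_ne_zero_of_ne_bot hP0.ne'
    exact ringKrullDim_succ_le_of_surjective (Ideal.Quotient.mk P) Ideal.Quotient.mk_surjective
      (mem_nonZeroDivisors_of_ne_zero hx0) (Ideal.Quotient.eq_zero_iff_mem.mpr hxP)
  rw [hd1, hn1] at hlt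
  rw [hd2] at hle ⊢
  rw [hn2]
  norm_cast at hle hlt ⊢
  omega

omit [IsDomain A] [Algebra.FiniteType k A] in
/-- A quotient of a quotient, as `k`-algebras. -/
lemma trdeg_quotient_quotient {Q P : Ideal A} (h : Q ≤ P) :
    Algebra.trdeg k ((A ⧸ Q) ⧸ P.map (Ideal.Quotient.mk Q)) = Algebra.trdeg k (A ⧸ P) :=
  (DoubleQuot.quotQuotEquivQuotOfLEₐ k h).trdeg_eq

omit [IsDomain A] in
/-- Along a covering relation of primes the transcendence degree drops by exactly one. -/
lemma trdeg_quotient_of_covBy {Q P : PrimeSpectrum A} (h : Q ⋖ P) :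
    Algebra.trdeg k (A ⧸ P.asIdeal) + 1 = Algebra.trdeg k (A ⧸ Q.asIdeal) := by
  haveI := finiteType_quotient k A Q.asIdeal
  have hle : Q.asIdeal ≤ P.asIdeal := h.le
  set P' : PrimeSpectrum (A ⧸ Q.asIdeal) :=
    ⟨P.asIdeal.map (Ideal.Quotient.mk _), Ideal.map_isPrime_of_surjective Ideal.Quotient.mk_surjective
      (by rwa [Ideal.mk_ker])⟩
  have hcomap : P'.asIdeal.comap (Ideal.Quotient.mk _) = P.asIdeal := by
    rw [Ideal.comap_map_of_surjective _ Ideal.Quotient.mk_surjective, ← RingHom.ker_eq_comap_bot,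
      Ideal.mk_ker, sup_eq_left.mpr hle]
  have hP' : P'.asIdeal.height = 1 := by
    refine le_antisymm ?_ ?_
    · rw [P'.height_eq_orderHeight, ← Nat.cast_one, Order.height_le_coe_iff]
      intro y hy
      rw [Nat.cast_one, Order.lt_one_iff, Order.height_eq_zero]
      intro z hz
      have hmem : ∀ w : PrimeSpectrum (A ⧸ Q.asIdeal), w < P' →
          w.asIdeal.comap (Ideal.Quotient.mk _) = Q.asIdeal := by
        intro w hw
        have h1 : Q ≤ PrimeSpectrum.comap (Ideal.Quotient.mk _) w :=
          fun x hx => by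
            change Ideal.Quotient.mk Q.asIdeal x ∈ w.asIdeal
            rw [Ideal.Quotient.eq_zero_iff_mem.mpr hx]; exact zero_mem _
        have h2 : PrimeSpectrum.comap (Ideal.Quotient.mk _) w < P := by
          have := RingHom.strictMono_comap_of_surjective
            (f := Ideal.Quotient.mk Q.asIdeal) Ideal.Quotient.mk_surjective hw
          exact lt_of_lt_of_eq this (PrimeSpectrum.ext hcomap)
        rcases h1.eq_or_lt with h3 | h3
        · exact (congrArg PrimeSpectrum.asIdeal h3).symm
        · exact absurd h2 (h.2 h3)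
      refine le_of_eq (PrimeSpectrum.ext ?_)
      apply Ideal.comap_injective_of_surjective _ Ideal.Quotient.mk_surjective
      rw [hmem y hy, hmem z (hz.trans_lt hy)]
    · refine Order.one_le_iff_pos.mpr (pos_iff_ne_zero.mpr fun h0 => ?_)
      haveI := P'.isPrime
      rw [Ideal.height_eq_zero_iff_eq_bot] at h0
      rw [h0, ← RingHom.ker_eq_comap_bot, Ideal.mk_ker] at hcomap
      exact h.lt.ne (PrimeSpectrum.ext hcomap)
  haveI : P'.asIdeal.IsPrime := P'.isPrime
  have := trdeg_quotient_of_height_eq_one k (A ⧸ Q.asIdeal) P'.asIdeal hP'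
  rwa [trdeg_quotient_quotient k A hle] at this

/-- The dimension formula `trdeg A/P + ht P = trdeg A`. -/
lemma trdeg_quotient_add_height (P : Ideal A) [hP : P.IsPrime] :
    ∃ n : ℕ, P.height = n ∧ Algebra.trdeg k (A ⧸ P) + n = Algebra.trdeg k A := by
  haveI : IsNoetherianRing A := Algebra.FiniteType.isNoetherianRing k A
  obtain ⟨n, hn⟩ := ENat.ne_top_iff_exists.mp (P.height_ne_top hP.ne_top)
  refine ⟨n, hn.symm, ?_⟩
  induction n generalizing P with
  | zero =>
    obtain rfl : P = ⊥ := Ideal.height_eq_zero_iff_eq_bot.mp (by simpa using hn.symm)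
    simpa using (AlgEquiv.quotientBot k A).trdeg_eq
  | succ n ih =>
    set p : PrimeSpectrum A := ⟨P, hP⟩
    have hp : Order.height p = (n + 1 : ℕ) := by rw [← p.height_eq_orderHeight]; exact hn.symm
    rw [Nat.cast_succ, Order.height_eq_coe_add_one_iff] at hp
    obtain ⟨-, ⟨q, hlt, hq⟩, hall⟩ := hp
    have hqp : q ⋖ p := ⟨hlt, fun r h1 h2 => by
      have h3 : (n : ℕ∞) + 1 ≤ Order.height r := hq ▸ Order.height_add_one_le h1
      have h4 := h3.trans (hall r h2)
      norm_cast at h4; omega⟩
    haveI := q.isPrime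
    have h1 := trdeg_quotient_of_covBy k A hqp
    have h2 := ih q.asIdeal (by rw [q.height_eq_orderHeight]; exact hq.symm)
    rw [← h2, ← h1, Nat.cast_succ, add_assoc, add_comm (n : Cardinal) 1]

include k in
lemma ringKrullDim_quotient_add_height (P : Ideal A) [P.IsPrime] :
    ringKrullDim (A ⧸ P) + P.height = ringKrullDim A := by
  haveI := finiteType_quotient k A P
  obtain ⟨n, hn, hn'⟩ := trdeg_quotient_add_height k A P
  obtain ⟨d, hd1, hd2, -⟩ := exists_ringKrullDim_eq_trdeg k (A ⧸ P)
  obtain ⟨m, hm1, hm2, -⟩ := exists_ringKrullDim_eq_trdeg k A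
  rw [hd1, hm1, hn]
  rw [hd2, hm2] at hn'
  have : d + n = m := by exact_mod_cast hn'
  rw [← this]
  simp

end FGu

end Groth.Agent.VarDim
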